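import Cfsg.Agent.Lib.Helper7.GlS3.Defs

set_option autoImplicit false

namespace Cfsg.Agent.Lib.Helper61.GlS3

open Subgroup Cfsg.Agent.Lib.Helper7.GlS3 Cfsg.Agent.Lib.Helper48
open scoped commutatorElement

theorem QC2_sl2 : ∀ t : Matrix.SpecialLinearGroup (Fin 2) (ZMod 2), t ≠ 1 → t ^ 2 = 1 →
    ∃ x : Matrix.SpecialLinearGroup (Fin 2) (ZMod 2),
      t * (x * t * x⁻¹) ≠ 1 ∧ (t * (x * t * x⁻¹)) ^ 3 = 1 := by
  decide

/-- conjugation by an element normalising `V` and `E` preserves `⁅V, E⁆` -/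
theorem QC2_conj_mem {G : Type*} [Group G] (V E : Subgroup G) (x : G)
    (hxV : x ∈ normalizer (V : Set G)) (hxE : x ∈ normalizer (E : Set G)) :
    x ∈ normalizer ((⁅V, E⁆ : Subgroup G) : Set G) := by
  have key : ∀ y : G, y ∈ normalizer (V : Set G) → y ∈ normalizer (E : Set G) →
      ∀ w ∈ ⁅V, E⁆, y * w * y⁻¹ ∈ ⁅V, E⁆ := by
    intro y hyV hyE w hw
    have h1 : (⁅V, E⁆).map (MulAut.conj y).toMonoidHom ≤ ⁅V, E⁆ := by
      rw [map_commutator]
      apply commutator_mono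
      · rintro _ ⟨v, hv, rfl⟩
        exact (mem_normalizer_iff.mp hyV v).mp hv
      · rintro _ ⟨v, hv, rfl⟩
        exact (mem_normalizer_iff.mp hyE v).mp hv
    exact h1 ⟨w, hw, rfl⟩
  rw [mem_normalizer_iff]
  intro w
  refine ⟨key x hxV hxE w, fun h => ?_⟩
  have := key x⁻¹ (inv_mem hxV) (inv_mem hxE) _ h
  simpa [mul_assoc] using this

theorem QC2_comm_le {G : Type*} [Group G] (V E : Subgroup G)
    (hEV : E ≤ normalizer (V : Set G)) : ⁅V, E⁆ ≤ V := by
  rw [commutator_le]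
  intro v hv e he
  have h1 : e * v⁻¹ * e⁻¹ ∈ V := (mem_normalizer_iff.mp (hEV he) _).mp (inv_mem hv)
  have : ⁅v, e⁆ = v * (e * v⁻¹ * e⁻¹) := by
    rw [commutatorElement_def]; group
  rw [this]
  exact mul_mem hv h1

theorem not_mem_centralizer_plane {G : Type*} [Group G] [Finite G] (V E : Subgroup G) (t : G)
    (hV : Cfsg.IsElementaryAbelian 2 V) (hEV : E ≤ normalizer (V : Set G))
    (hf : E ⊓ centralizer (V : Set G) = ⊥)
    (hE : Nonempty (↥E ≃* Matrix.SpecialLinearGroup (Fin 2) (ZMod 2)))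
    (ht : t ∈ E) (ht1 : t ≠ 1) (ht2 : t ^ 2 = 1) :
    t ∉ centralizer ((⁅V, E⁆ : Subgroup G) : Set G) := by
  intro htW
  obtain ⟨e⟩ := hE
  have h1 : e ⟨t, ht⟩ ≠ 1 := by
    intro h
    have : (⟨t, ht⟩ : E) = 1 := by
      apply e.injective; rw [h, map_one]
    exact ht1 (congrArg Subtype.val this)
  have h2 : (e ⟨t, ht⟩) ^ 2 = 1 := by
    rw [← map_pow]
    have : (⟨t, ht⟩ : E) ^ 2 = 1 := Subtype.ext (by simpa using ht2)
    rw [this, map_one]
  obtain ⟨x', hx1, hx3⟩ := QC2_sl2 _ h1 h2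
  obtain ⟨x, rfl⟩ := e.surjective x'
  rw [← map_inv, ← map_mul, ← map_mul, ← map_mul] at hx1 hx3
  rw [← map_pow] at hx3
  have hy1 : (⟨t, ht⟩ : E) * (x * ⟨t, ht⟩ * x⁻¹) ≠ 1 := by
    intro h; exact hx1 (by rw [h, map_one])
  have hy3 : ((⟨t, ht⟩ : E) * (x * ⟨t, ht⟩ * x⁻¹)) ^ 3 = 1 := by
    apply e.injective; rw [hx3, map_one]
  set y : G := t * ((x : G) * t * (x : G)⁻¹) with hy
  have hyE : y ∈ E := ((⟨t, ht⟩ : E) * (x * ⟨t, ht⟩ * x⁻¹)).2
  have hyne : y ≠ 1 := by
    intro h; exact hy1 (Subtype.ext h)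
  have hy3' : y ^ 3 = 1 := by
    have := congrArg Subtype.val hy3
    simpa using this
  -- `y` centralises `W`
  have hxN : (x : G) ∈ normalizer ((⁅V, E⁆ : Subgroup G) : Set G) :=
    QC2_conj_mem V E x (hEV x.2) (le_normalizer x.2)
  have hyW : y ∈ centralizer ((⁅V, E⁆ : Subgroup G) : Set G) := by
    apply mul_mem htW
    rw [mem_centralizer_iff]
    intro w hw
    have hw' : (x : G)⁻¹ * w * (x : G) ∈ ⁅V, E⁆ := by
      have := (mem_normalizer_iff.mp (inv_mem hxN) w).mp hw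
      simpa using this
    have h3 := (mem_centralizer_iff.mp htW) _ hw'
    calc w * ((x : G) * t * (x : G)⁻¹)
        = (x : G) * (((x : G)⁻¹ * w * (x : G)) * t) * (x : G)⁻¹ := by group
      _ = (x : G) * (t * ((x : G)⁻¹ * w * (x : G))) * (x : G)⁻¹ := by rw [h3]
      _ = (x : G) * t * (x : G)⁻¹ * w := by group
  have hWV := QC2_comm_le V E hEV
  have hyV : y ∈ centralizer (V : Set G) := by
    rw [mem_centralizer_iff]
    intro v hv
    -- c = ⁅v⁻¹, y⁆
    set c : G := ⁅v⁻¹, y⁆ with hc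
    have hcW : c ∈ ⁅V, E⁆ := commutator_mem_commutator (inv_mem hv) hyE
    have hcy : c * y = y * c := (mem_centralizer_iff.mp hyW) c hcW
    have hc2 : c ^ 2 = 1 := hV.2 c (hWV hcW)
    have hconj : y * v = v * c * y := by
      rw [hc, commutatorElement_def]; group
    have h3 : y ^ 3 * v = v * c ^ 3 * y ^ 3 := by
      calc y ^ 3 * v = y * (y * (y * v)) := by simp only [pow_succ, pow_zero, one_mul, mul_assoc]
        _ = y * (y * (v * c * y)) := by rw [hconj]
        _ = y * ((y * v) * (c * y)) := by group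
        _ = y * ((v * c * y) * (y * c)) := by rw [hconj, hcy]
        _ = (y * v) * (c * y) * y * c := by group
        _ = (v * c * y) * (y * c) * y * c := by rw [hconj, hcy]
        _ = v * (c * y) * y * (c * y) * c := by group
        _ = v * (y * c) * y * (y * c) * c := by rw [hcy]
        _ = v * y * (c * y) * y * c * c := by group
        _ = v * y * (y * c) * y * c * c := by rw [hcy]
        _ = v * y * y * (c * y) * c * c := by group
        _ = v * y * y * (y * c) * c * c := by rw [hcy]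
        _ = v * (y ^ 3) * c ^ 3 := by simp only [pow_succ, pow_zero, one_mul, mul_assoc]
        _ = v * c ^ 3 * y ^ 3 := by rw [hy3']; group
    rw [hy3', one_mul, mul_one] at h3
    have hc1 : c = 1 := by
      have h4 : c ^ 3 = 1 := by
        have := mul_left_cancel (a := v) (b := 1) (c := c ^ 3) (by rw [mul_one]; exact h3)
        exact this.symm
      calc c = c ^ 3 * (c ^ 2)⁻¹ := by group
        _ = 1 := by rw [h4, hc2]; simp
    rw [hconj, hc1, mul_one]
  have : y ∈ E ⊓ centralizer (V : Set G) := mem_inf.mpr ⟨hyE, hyV⟩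
  rw [hf, mem_bot] at this
  exact hyne this

end Cfsg.Agent.Lib.Helper61.GlS3
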