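import Cfsg.Agent.Lib.Helper7.GlS3.Defs
import Cfsg.Agent.Lib.Helper61.GlS3.QC2
import Cfsg.Agent.Lib.Helper98.GlS3.QC1

set_option autoImplicit false

namespace Cfsg.Agent.Lib.Helper61.GlS3

open Subgroup Cfsg.Agent.Lib.Helper7.GlS3 Cfsg.Agent.Lib.Helper48
open scoped commutatorElement

theorem QC_sup_mem {G : Type*} [Group G] (X Y : Subgroup G) (x : G)
    (hxX : x ∈ normalizer (X : Set G)) (hxY : x ∈ normalizer (Y : Set G)) :
    x ∈ normalizer ((X ⊔ Y : Subgroup G) : Set G) := by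
  have key : ∀ y : G, y ∈ normalizer (X : Set G) → y ∈ normalizer (Y : Set G) →
      ∀ w ∈ X ⊔ Y, y * w * y⁻¹ ∈ X ⊔ Y := by
    intro y hyX hyY w hw
    have h1 : (X ⊔ Y).map (MulAut.conj y).toMonoidHom ≤ X ⊔ Y := by
      rw [Subgroup.map_sup]
      apply sup_le_sup
      · rintro _ ⟨v, hv, rfl⟩
        exact (mem_normalizer_iff.mp hyX v).mp hv
      · rintro _ ⟨v, hv, rfl⟩
        exact (mem_normalizer_iff.mp hyY v).mp hv
    exact h1 ⟨w, hw, rfl⟩
  rw [mem_normalizer_iff]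
  intro w
  refine ⟨key x hxX hxY w, fun h => ?_⟩
  have := key x⁻¹ (inv_mem hxX) (inv_mem hxY) _ h
  simpa [mul_assoc] using this

theorem exists_plane {G : Type*} [Group G] [Finite G] {V M : Subgroup G} (h : Amb V M)
    (B₀ : Subgroup G) (hB₀M : B₀ ≤ M) (hB₀ : Cfsg.IsBestOffenderOn 2 V B₀) (hne : B₀ ≠ ⊥) :
    ∃ (t : G) (W : Subgroup G), t ∈ B₀ ∧ W ≤ V ∧ Nat.card W = 4 ∧
      t ∉ centralizer (W : Set G) ∧
      ∀ a ∈ M, a * t = t * a → a ∈ normalizer (W : Set G) := by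
  haveI : Fact (Nat.Prime 2) := ⟨Nat.prime_two⟩
  obtain ⟨hHM, hHV, hHf, hS1, hS3, hMN⟩ := Cfsg.Agent.Lib.Helper98.GlS3.BO_hyps h
  set H := BO V M with hH
  have hB₀H : B₀ ≤ H := by
    rw [hH, BO]
    exact le_iSup (fun A : {A : Subgroup G // A ≤ M ∧ Cfsg.IsBestOffenderOn 2 V A} =>
      (A : Subgroup G)) ⟨B₀, hB₀M, hB₀⟩
  have hH1 : H ≠ ⊥ := by
    intro h0
    exact hne (le_bot_iff.mp (h0 ▸ hB₀H))
  have hVB₀ : ⁅V, B₀⁆ ≠ ⊥ := by
    intro h0
    rw [commutator_eq_bot_iff_le_centralizer, le_centralizer_iff] at h0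
    exact hne (le_bot_iff.mp (h.hf ▸ le_inf hB₀M h0))
  -- minimal
  obtain ⟨B, hBmin⟩ := Set.Finite.exists_minimal
    (s := {B : Subgroup G | B ≤ B₀ ∧ Cfsg.IsBestOffenderOn 2 V B ∧ ⁅V, B⁆ ≠ ⊥})
    (Set.toFinite _) ⟨B₀, le_rfl, hB₀, hVB₀⟩
  obtain ⟨⟨hBB₀, hB, hVB⟩, hmin'⟩ := hBmin
  have hmin : ∀ B' : Subgroup G, B' ≤ B → Cfsg.IsBestOffenderOn 2 V B' → ⁅V, B'⁆ ≠ ⊥ →
      B' = B := by
    intro B' hB'B hB' hVB'
    exact le_antisymm hB'B (hmin' ⟨hB'B.trans hBB₀, hB', hVB'⟩ hB'B)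
  have hBH : B ≤ H := hBB₀.trans hB₀H
  obtain ⟨hcard, -, -⟩ := Cfsg.Agent.S0611.result V H h.hV hHV hHf hS1 hS3 hH1 B hBH hB hVB hmin
  obtain ⟨t', ht', huniq⟩ := (Nat.card_eq_two_iff' (1 : B)).mp hcard
  obtain ⟨t, htB⟩ := t'
  have ht1 : t ≠ 1 := fun h0 => ht' (Subtype.ext h0)
  have hBt : ∀ b ∈ B, b = 1 ∨ b = t := by
    intro b hb
    by_cases hb1 : b = 1
    · exact Or.inl hb1
    · right
      have := huniq ⟨b, hb⟩ (fun h0 => hb1 (congrArg Subtype.val h0))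
      exact congrArg Subtype.val this
  have ht2 : t ^ 2 = 1 := by
    have h0 : (⟨t, htB⟩ : B) ^ Nat.card B = 1 := pow_card_eq_one'
    rw [hcard] at h0
    simpa using congrArg Subtype.val h0
  set K : Subgroup G := (Cfsg.pPrimeCore 2 ↥H).map H.subtype with hK
  set E : Subgroup G := ⁅K, B⁆ ⊔ B with hE
  obtain ⟨-, hE2, -⟩ := Cfsg.Agent.S0617.result V H h.hV hHV hHf hS1 hS3 hH1
  obtain ⟨-, hEiso, hEcard⟩ := hE2 ⟨E, B, hBH, hB, hVB, hmin, rfl⟩
  have hKH : K ≤ H := by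
    rw [hK]
    exact map_subtype_le _
  have hEH : E ≤ H := by
    rw [hE]
    refine sup_le ?_ hBH
    rw [commutator_le]
    intro k hk b hb
    exact H.mul_mem (H.mul_mem (H.mul_mem (hKH hk) (hBH hb)) (H.inv_mem (hKH hk)))
      (H.inv_mem (hBH hb))
  have hEV : E ≤ normalizer (V : Set G) := hEH.trans hHV
  have hEf : E ⊓ centralizer (V : Set G) = ⊥ :=
    le_bot_iff.mp (hHf ▸ inf_le_inf_right _ hEH)
  have htE : t ∈ E := (le_sup_right : B ≤ E) htB
  refine ⟨t, ⁅V, E⁆, hBB₀ htB, QC2_comm_le V E hEV, by simpa using hEcard,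
    not_mem_centralizer_plane V E t h.hV hEV hEf hEiso htE ht1 ht2, ?_⟩
  intro a haM hat
  have haV : a ∈ normalizer (V : Set G) := h.hMV haM
  have haK : a ∈ normalizer (K : Set G) := hMN haM
  have haB : a ∈ normalizer (B : Set G) := by
    have hat' : a * t * a⁻¹ = t := by rw [hat]; group
    have hat'' : a⁻¹ * t * a = t := by
      calc a⁻¹ * t * a = a⁻¹ * (t * a) := by group
        _ = a⁻¹ * (a * t) := by rw [hat]
        _ = t := by group
    rw [mem_normalizer_iff]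
    intro b
    constructor
    · intro hb
      rcases hBt b hb with rfl | rfl
      · simp
      · rw [hat']; exact htB
    · intro hb
      rcases hBt _ hb with h0 | h0
      · have : b = 1 := by
          calc b = a⁻¹ * (a * b * a⁻¹) * a := by group
            _ = 1 := by rw [h0]; group
        rw [this]; exact B.one_mem
      · have : b = t := by
          calc b = a⁻¹ * (a * b * a⁻¹) * a := by group
            _ = a⁻¹ * t * a := by rw [h0]
            _ = t := hat''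
        rw [this]; exact htB
  have haE : a ∈ normalizer (E : Set G) :=
    QC_sup_mem _ _ a (QC2_conj_mem K B a haK haB) haB
  exact QC2_conj_mem V E a haV haE

end Cfsg.Agent.Lib.Helper61.GlS3
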